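import Cfsg.Agent.ThCent69.Class819.Data
import Cfsg.Agent.ThModel83.Rep

/-! Kernel checks on the conjugates of `a` in the packed model. -/

set_option autoImplicit false
set_option maxRecDepth 100000

namespace CfsgLib.ThCent69.Class819

open CfsgLib.ThModel83

/-- one entry of the table of images -/
noncomputable def stepOK (z : ℕ) (row : List ℕ) : Bool :=
  (List.range 7).all fun j =>
    Nat.beq (cmul (cmul (genCode.getD j 0) z) (cinv (genCode.getD j 0))) (cls.getD (row.getD j 819) 0) &&
      Nat.blt (row.getD j 819) 819

/-- one entry of the parents -/
noncomputable def parOK (i : ℕ) : Bool :=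
  Nat.beq i 0 || (Nat.blt (par.getD i (0, 7)).1 i && Nat.blt (par.getD i (0, 7)).2 7 &&
    Nat.beq (cls.getD i 0) (cmul (cmul (genCode.getD (par.getD i (0, 7)).2 0)
      (cls.getD (par.getD i (0, 7)).1 0)) (cinv (genCode.getD (par.getD i (0, 7)).2 0))))

/-- no repetition -/
noncomputable def nodupB : List ℕ → Bool
  | [] => true
  | x :: l => l.all (fun y => !Nat.beq x y) && nodupB l

theorem head_eq : cls.getD 0 0 = Data.aC := by decide +kernel

theorem length_eq : cls.length = 819 := by decide +kernel

theorem nodup_ok : nodupB cls = true := by decide +kernel

theorem par_ok : (List.range 819).all parOK = true := by decide +kernel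

theorem next0 : (cls0.zip nxt0).all (fun p => stepOK p.1 p.2) = true := by
  decide +kernel

theorem lengths0 : cls0.length = 117 ∧ nxt0.length = 117 := by decide +kernel

theorem next117 : (cls117.zip nxt117).all (fun p => stepOK p.1 p.2) = true := by
  decide +kernel

theorem lengths117 : cls117.length = 117 ∧ nxt117.length = 117 := by decide +kernel

theorem next234 : (cls234.zip nxt234).all (fun p => stepOK p.1 p.2) = true := by
  decide +kernel

theorem lengths234 : cls234.length = 117 ∧ nxt234.length = 117 := by decide +kernel

theorem next351 : (cls351.zip nxt351).all (fun p => stepOK p.1 p.2) = true := by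
  decide +kernel

theorem lengths351 : cls351.length = 117 ∧ nxt351.length = 117 := by decide +kernel

theorem next468 : (cls468.zip nxt468).all (fun p => stepOK p.1 p.2) = true := by
  decide +kernel

theorem lengths468 : cls468.length = 117 ∧ nxt468.length = 117 := by decide +kernel

theorem next585 : (cls585.zip nxt585).all (fun p => stepOK p.1 p.2) = true := by
  decide +kernel

theorem lengths585 : cls585.length = 117 ∧ nxt585.length = 117 := by decide +kernel

theorem next702 : (cls702.zip nxt702).all (fun p => stepOK p.1 p.2) = true := by
  decide +kernel

theorem lengths702 : cls702.length = 117 ∧ nxt702.length = 117 := by decide +kernel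

end CfsgLib.ThCent69.Class819
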