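import Cfsg.Agent.ThCent69.Class819.Checks
import Cfsg.Agent.ThModel83.Model

/-!
The class of `a` in the packed model of `³D₄(2):3`.
-/

set_option autoImplicit false
set_option maxRecDepth 100000

namespace CfsgLib.ThCent69.Class819

open CfsgLib.ThModel83

/-- the element `a` of the model -/
noncomputable def za : R := genR 0

theorem cenc_za : cenc za.1 = cls.getD 0 0 := by
  rw [head_eq]
  exact cenc_genR' 0 rfl

theorem genCode_getD (j : ℕ) (hj : j < 7) : genCode.getD j 0 = cenc (genR ⟨j, hj⟩).1 := by
  rw [cenc_genR, List.getD_eq_getElem _ _ (show j < genCode.length from hj)]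
  rfl

theorem cenc_conj (g z : R) :
    cenc (g * z * g⁻¹).1 = cmul (cmul (cenc g.1) (cenc z.1)) (cinv (cenc g.1)) := by
  show cenc (g.1 * z.1 * g.1⁻¹) = _
  rw [cenc_mul, cenc_mul, cenc_inv]

/-- the images from chunk `b` -/
theorem chunk_spec {cs : List ℕ} {ns : List (List ℕ)}
    (h : (cs.zip ns).all (fun p => stepOK p.1 p.2) = true) (hl : cs.length = ns.length) {z : ℕ}
    (hz : z ∈ cs) {j : ℕ} (hj : j < 7) :
    cmul (cmul (genCode.getD j 0) z) (cinv (genCode.getD j 0)) ∈ cls := by
  obtain ⟨i, hi, rfl⟩ := List.getElem_of_mem hz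
  simp only [List.all_eq_true] at h
  have hp := h (cs[i], ns[i]'(hl ▸ hi)) (List.mem_iff_getElem.2
    ⟨i, by simp only [List.length_zip]; omega, List.getElem_zip⟩)
  simp only [stepOK, List.all_eq_true, List.mem_range, Bool.and_eq_true, Nat.blt, Nat.ble_eq] at hp
  obtain ⟨he, hlt⟩ := hp j hj
  rw [Nat.eq_of_beq_eq_true he,
    List.getD_eq_getElem _ _ (show (ns[i]'(hl ▸ hi)).getD j 819 < cls.length from
      length_eq.symm ▸ hlt)]
  exact List.getElem_mem _

theorem closed {z : ℕ} (hz : z ∈ cls) {j : ℕ} (hj : j < 7) :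
    cmul (cmul (genCode.getD j 0) z) (cinv (genCode.getD j 0)) ∈ cls := by
  simp only [cls, List.mem_append] at hz
  rcases hz with ((((((h | h) | h) | h) | h) | h) | h)
  · exact chunk_spec next0 (lengths0.1.trans lengths0.2.symm) h hj
  · exact chunk_spec next117 (lengths117.1.trans lengths117.2.symm) h hj
  · exact chunk_spec next234 (lengths234.1.trans lengths234.2.symm) h hj
  · exact chunk_spec next351 (lengths351.1.trans lengths351.2.symm) h hj
  · exact chunk_spec next468 (lengths468.1.trans lengths468.2.symm) h hj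
  · exact chunk_spec next585 (lengths585.1.trans lengths585.2.symm) h hj
  · exact chunk_spec next702 (lengths702.1.trans lengths702.2.symm) h hj

theorem closure_genR [Finite R] :
    Submonoid.closure (Set.range fun i : Fin 7 => genR i) = ⊤ := by
  refine eq_top_iff.2 fun x hxtop => ?_
  clear hxtop
  have h : x ∈ Subgroup.closure (Set.range fun i : Fin 7 => genR i) := by
    obtain ⟨_, y, rfl⟩ := x
    have hy : y ∈ Subgroup.closure (Set.range fun i : Fin 7 => (PresentedGroup.of i : Hp)) :=
      closure_of ▸ Subgroup.mem_top y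
    have hm : (⟨rho y, ⟨y, rfl⟩⟩ : R) ∈
        (Subgroup.closure (Set.range fun i : Fin 7 => (PresentedGroup.of i : Hp))).map
          rho.rangeRestrict :=
      Subgroup.mem_map_of_mem _ hy
    rw [MonoidHom.map_closure, ← Set.range_comp] at hm
    exact hm
  induction h using Subgroup.closure_induction with
  | mem a ha => exact Submonoid.subset_closure ha
  | one => exact one_mem _
  | mul a b _ _ ha hb => exact mul_mem ha hb
  | inv a _ ha =>
    have hfin : IsOfFinOrder a := isOfFinOrder_of_finite a
    have e : a⁻¹ = a ^ (orderOf a - 1) := by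
      refine inv_eq_of_mul_eq_one_left ?_
      rw [← pow_succ, Nat.sub_add_cancel hfin.orderOf_pos, pow_orderOf_eq_one]
    rw [e]
    exact pow_mem ha _

/-- the list holds every conjugate of `a` -/
theorem conj_mem_cls [Finite R] (x : R) : cenc (x * za * x⁻¹).1 ∈ cls := by
  suffices h : ∀ z : R, cenc z.1 ∈ cls → cenc (x * z * x⁻¹).1 ∈ cls from
    h za (by
      rw [cenc_za, List.getD_eq_getElem _ _ (show 0 < cls.length by rw [length_eq]; omega)]
      exact List.getElem_mem _)
  have hx : x ∈ Submonoid.closure (Set.range fun i : Fin 7 => genR i) :=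
    closure_genR ▸ Submonoid.mem_top x
  induction hx using Submonoid.closure_induction with
  | mem g hg =>
    obtain ⟨i, rfl⟩ := hg
    intro z hz
    rw [cenc_conj, ← genCode_getD i.1 i.2]
    exact closed hz i.2
  | one => intro z hz; simpa using hz
  | mul g k _ _ ihg ihk =>
    intro z hz
    rw [show g * k * z * (g * k)⁻¹ = g * (k * z * k⁻¹) * g⁻¹ by group]
    exact ihg _ (ihk z hz)

theorem exists_conj (i : ℕ) (hi : i < 819) : ∃ x : R, cenc (x * za * x⁻¹).1 = cls.getD i 0 := by
  induction i using Nat.strong_induction_on with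
  | _ i ih =>
    have h := par_ok
    simp only [List.all_eq_true, List.mem_range, parOK, Bool.or_eq_true, Bool.and_eq_true, Nat.blt,
      Nat.ble_eq] at h
    rcases h i hi with h0 | ⟨⟨hp, hg⟩, he⟩
    · obtain rfl := Nat.eq_of_beq_eq_true h0
      exact ⟨1, by simpa using cenc_za⟩
    · obtain ⟨x, hx⟩ := ih _ hp (by omega)
      refine ⟨genR ⟨_, hg⟩ * x, ?_⟩
      rw [Nat.eq_of_beq_eq_true he, ← hx, genCode_getD _ hg, ← cenc_conj]
      congr 2
      group

theorem nodupB_iff : ∀ l : List ℕ, nodupB l = true → l.Nodup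
  | [], _ => List.nodup_nil
  | x :: l, h => by
    rw [nodupB, Bool.and_eq_true, List.all_eq_true] at h
    refine List.nodup_cons.2 ⟨fun hm => ?_, nodupB_iff l h.2⟩
    have := h.1 x hm
    simp at this

/-- the centraliser of `a` in the model -/
theorem card_centralizer_za_le (hb : BoundHyp) :
    Nat.card (Subgroup.centralizer ({za} : Set R)) ≤ 774144 := by
  haveI := hb.1
  haveI : Finite R := Finite.of_surjective rho.rangeRestrict rho.rangeRestrict_surjective
  have hR : Nat.card R ≤ 634023936 :=
    (Nat.card_le_card_of_surjective _ rho.rangeRestrict_surjective).trans hb.2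
  choose y hy using fun i : Fin 819 => exists_conj i.1 i.2
  let F : Fin 819 × Subgroup.centralizer ({za} : Set R) → R := fun p => y p.1 * p.2.1
  have hF : Function.Injective F := by
    rintro ⟨i, c⟩ ⟨j, d⟩ h
    change y i * c.1 = y j * d.1 at h
    have hc : ∀ c : Subgroup.centralizer ({za} : Set R), c.1 * za * c.1⁻¹ = za := fun c => by
      rw [Subgroup.mem_centralizer_singleton_iff.1 c.2, mul_inv_cancel_right]
    have e : y i * za * (y i)⁻¹ = y j * za * (y j)⁻¹ :=
      calc y i * za * (y i)⁻¹ = y i * (c.1 * za * c.1⁻¹) * (y i)⁻¹ := by rw [hc]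
        _ = (y i * c.1) * za * (y i * c.1)⁻¹ := by group
        _ = (y j * d.1) * za * (y j * d.1)⁻¹ := by rw [h]
        _ = y j * (d.1 * za * d.1⁻¹) * (y j)⁻¹ := by group
        _ = y j * za * (y j)⁻¹ := by rw [hc]
    have e' := congrArg (fun z : R => cenc z.1) e
    simp only [hy] at e'
    have hil : (i : ℕ) < cls.length := i.2.trans_eq length_eq.symm
    have hjl : (j : ℕ) < cls.length := j.2.trans_eq length_eq.symm
    rw [List.getD_eq_getElem _ _ hil, List.getD_eq_getElem _ _ hjl] at e'
    obtain rfl : i = j := Fin.ext ((nodupB_iff cls nodup_ok).getElem_inj_iff.1 e')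
    exact Prod.ext rfl (Subtype.ext (mul_left_cancel h))
  have h := Nat.card_le_card_of_injective F hF
  rw [Nat.card_prod, Nat.card_fin] at h
  omega

end CfsgLib.ThCent69.Class819
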